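import Mathlib
import Cfsg.Agent.Lib.FrobCompl.Noncyclic
import Cfsg.Agent.Lib.FourOrbit.Basic

/-!
Nonsolvable groups in which every element has prime power order.
-/

set_option autoImplicit false
set_option linter.style.haveILetI false
set_option linter.unusedSectionVars false

namespace CfsgLib.PrimePower

universe u

variable {G : Type u} [Group G] [Finite G]

/-- Every element has prime power order. -/
def IsPP (G : Type u) [Group G] : Prop := ∀ g : G, g ≠ 1 → IsPrimePow (orderOf g)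

theorem IsPP.quotient (h : IsPP G) (N : Subgroup G) [N.Normal] : IsPP (G ⧸ N) := by
  intro x hx
  induction x using QuotientGroup.induction_on
  rename_i g
  have hg1 : g ≠ 1 := fun e => hx (by rw [e]; rfl)
  obtain ⟨p, k, hp, hk, e⟩ := h g hg1
  have hd : orderOf (g : G ⧸ N) ∣ p ^ k := e ▸ orderOf_map_dvd (QuotientGroup.mk' N) g
  obtain ⟨j, -, hj⟩ := (Nat.dvd_prime_pow hp.nat_prime).mp hd
  refine ⟨p, j, hp, Nat.pos_of_ne_zero fun e0 => hx ?_, hj.symm⟩
  rw [← orderOf_eq_one_iff, hj, e0, pow_zero]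

theorem IsPP.eq_of_commute (h : IsPP G) {a b : G} {s t : ℕ} (hs : s.Prime) (ht : t.Prime)
    (ha : orderOf a = s) (hb : orderOf b = t) (hc : Commute a b) : s = t := by
  by_contra hst
  have ho := hc.orderOf_mul_eq_mul_orderOf_of_coprime
    (by rw [ha, hb]; exact (Nat.coprime_primes hs ht).mpr hst)
  rw [ha, hb] at ho
  have h1 : a * b ≠ 1 := fun e => by
    rw [e, orderOf_one] at ho
    have := hs.two_le
    have := ht.pos
    nlinarith
  obtain ⟨r, i, hr, -, e⟩ := h _ h1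
  rw [ho] at e
  have hsr := (Nat.prime_dvd_prime_iff_eq hs hr.nat_prime).mp (hs.dvd_of_dvd_pow (e ▸ dvd_mul_right s t))
  have htr := (Nat.prime_dvd_prime_iff_eq ht hr.nat_prime).mp (ht.dvd_of_dvd_pow (e ▸ dvd_mul_left t s))
  exact hst (hsr.trans htr.symm)

/-- A group commuting with an element of prime order is a group of that prime. -/
theorem IsPP.isPGroup_of_centralizes (h : IsPP G) {z : G} {q : ℕ} [Fact q.Prime] (hz : orderOf z = q)
    {C : Subgroup G} (hC : ∀ c ∈ C, Commute c z) : IsPGroup q ↥C := by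
  refine IsPGroup.iff_card.mpr ⟨(Nat.card ↥C).primeFactorsList.length, ?_⟩
  refine Nat.eq_prime_pow_of_unique_prime_dvd Nat.card_pos.ne' fun {r} hr hd => ?_
  haveI := Fact.mk hr
  obtain ⟨c, hc⟩ := exists_prime_orderOf_dvd_card' r hd
  exact h.eq_of_commute hr Fact.out (by rw [Subgroup.orderOf_coe, hc]) hz (hC c c.2)

/-- In a nonsolvable group, the normal subgroups with prime power index over a normal `p`-subgroup
are controlled by their unique subgroup of order `q`. -/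
theorem IsPP.isSolvable_of_step (h : IsPP G) {p q : ℕ} [Fact p.Prime] [Fact q.Prime] (hpq : p ≠ q)
    (F : Subgroup G) [F.Normal] (hF : IsPGroup p ↥F) (hF1 : F ≠ ⊥) (K : Subgroup G) [K.Normal]
    (hFK : F ≤ K) (hKq : IsPGroup q ↥(K.map (QuotientGroup.mk' F))) (hne : ¬ K ≤ F) :
    Group.IsSolvable G := by
  classical
  set π := QuotientGroup.mk' F with hπ
  obtain ⟨Q⟩ : Nonempty (Sylow q ↥K) := inferInstance
  set Q0 := (Q : Subgroup ↥K).map K.subtype with hQ0
  have hQq : IsPGroup q ↥Q0 := Q.2.map _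
  have hfr : Subgroup.normalizer (Q0 : Set G) ⊔ K = ⊤ := Sylow.normalizer_sup_eq_top Q
  have hQK : Q0 ≤ K := Subgroup.map_subtype_le _
  -- `K = F Q₀`
  let φ : ↥K →* ↥(K.map π) := π.subgroupMap K
  have hQtop : (Q : Subgroup ↥K).map φ = ⊤ := by
    let S : Sylow q ↥(K.map π) := Q.mapSurjective (π.subgroupMap_surjective K)
    have hS : ((S : Sylow q ↥(K.map π)) : Subgroup ↥(K.map π)) = ⊤ := by
      have := S.3 (Q := ⊤) (hKq.to_subgroup _) le_top
      exact this.symm
    exact hS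
  have hKFQ : K ≤ F ⊔ Q0 := by
    intro k hk
    obtain ⟨x, hx, e⟩ := (hQtop.symm ▸ Subgroup.mem_top (φ ⟨k, hk⟩) :
      φ ⟨k, hk⟩ ∈ (Q : Subgroup ↥K).map φ)
    have e' : π (x : G) = π k := congrArg Subtype.val e
    have hkF : (x : G)⁻¹ * k ∈ F := by
      rw [← QuotientGroup.eq_one_iff]
      show π ((x : G)⁻¹ * k) = 1
      rw [map_mul, map_inv, e', inv_mul_cancel]
    rw [show k = (x : G) * ((x : G)⁻¹ * k) by group]
    exact Subgroup.mul_mem _ (Subgroup.mem_sup_right ⟨x, hx, rfl⟩) (Subgroup.mem_sup_left hkF)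
  have hQ1 : Q0 ≠ ⊥ := fun e => hne (hKFQ.trans (by rw [e, sup_bot_eq]))
  set N := Subgroup.normalizer (Q0 : Set G) with hN
  have hgen : N ⊔ F = ⊤ := by
    refine top_le_iff.mp (hfr.symm.le.trans (sup_le le_sup_left (hKFQ.trans ?_)))
    exact sup_le le_sup_right (Subgroup.le_normalizer.trans le_sup_left)
  -- the fixed point free action on the centre of `F`
  set V := (Subgroup.center ↥F).map F.subtype with hV
  haveI hVc : IsMulCommutative ↥V := ⟨⟨fun u v => Subtype.ext (by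
    obtain ⟨a, ha, ea⟩ := u.2
    show (u : G) * v = v * u
    obtain ⟨b, -, eb⟩ := v.2
    rw [← ea, ← eb]
    exact congrArg Subtype.val (Subgroup.mem_center_iff.mp ha b).symm)⟩⟩
  have hV1 : V ≠ ⊥ := by
    haveI : Nontrivial ↥F := (Subgroup.nontrivial_iff_ne_bot F).mpr hF1
    haveI := hF.center_nontrivial
    intro e
    exact (Subgroup.nontrivial_iff_ne_bot _).mp inferInstance
      ((Subgroup.map_eq_bot_iff_of_injective _ F.subtype_injective).mp e)
  haveI hVn : V.Normal := ConjAct.normal_of_characteristic_of_normal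
  have hfpf : ∀ e ∈ Q0, e ≠ 1 → V ⊓ Subgroup.centralizer {e} = ⊥ := by
    intro e he he1
    rw [eq_bot_iff]
    intro v hv
    by_contra hv1
    rw [Subgroup.mem_bot] at hv1
    obtain ⟨a, -, hva⟩ := hv.1
    have hvF : v ∈ F := hva ▸ a.2
    obtain ⟨i, hi⟩ := hF ⟨v, hvF⟩
    obtain ⟨j, hj⟩ := hQq ⟨e, he⟩
    have hve : Commute v e := Subgroup.mem_centralizer_singleton_iff.mp hv.2
    have hvd : orderOf v ∣ p ^ i := orderOf_dvd_of_pow_eq_one (congrArg Subtype.val hi)
    have hed : orderOf e ∣ q ^ j := orderOf_dvd_of_pow_eq_one (congrArg Subtype.val hj)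
    obtain ⟨v', hv', -, hvv⟩ : ∃ v', orderOf v' = p ∧ True ∧ Commute v' e := by
      obtain ⟨m, -, hm⟩ := (Nat.dvd_prime_pow Fact.out).mp hvd
      have hm0 : m ≠ 0 := fun e0 => hv1 (orderOf_eq_one_iff.mp (by rw [hm, e0, pow_zero]))
      refine ⟨v ^ (p ^ (m - 1)), ?_, trivial, hve.pow_left _⟩
      rw [orderOf_pow' v (pow_ne_zero _ (Fact.out : p.Prime).ne_zero), hm,
        Nat.gcd_eq_right (pow_dvd_pow p (by omega)), Nat.pow_div (by omega) (Fact.out : p.Prime).pos,
        Nat.sub_sub_self (by omega), pow_one]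
    obtain ⟨m, -, hm⟩ := (Nat.dvd_prime_pow Fact.out).mp hed
    have hm0 : m ≠ 0 := fun e0 => he1 (orderOf_eq_one_iff.mp (by rw [hm, e0, pow_zero]))
    refine hpq (h.eq_of_commute Fact.out Fact.out hv' ?_ (hvv.pow_right (q ^ (m - 1))))
    rw [orderOf_pow' e (pow_ne_zero _ (Fact.out : q.Prime).ne_zero), hm,
      Nat.gcd_eq_right (pow_dvd_pow q (by omega)), Nat.pow_div (by omega) (Fact.out : q.Prime).pos,
      Nat.sub_sub_self (by omega), pow_one]
  obtain ⟨z, hzo⟩ : ∃ z : ↥Q0, orderOf z = q := by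
    obtain ⟨n, hn⟩ := IsPGroup.iff_card.mp hQq
    refine exists_prime_orderOf_dvd_card' q (hn ▸ dvd_pow_self q fun e => hQ1 ?_)
    exact Subgroup.eq_bot_of_card_eq _ (by rw [hn, e, pow_zero])
  set Z := Subgroup.zpowers (z : G) with hZ
  have hzo' : orderOf (z : G) = q := by rw [Subgroup.orderOf_coe, hzo]
  have hZn : ∀ n ∈ N, n * z * n⁻¹ ∈ Z := fun n hn =>
    CfsgLib.FrobCompl.mem_zpowers_of_pgroup hV1
      (by rw [Subgroup.normalizer_eq_top_iff.mpr hVn]; exact le_top) hfpf hQq le_rfl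
      ((Subgroup.mem_normalizer_iff.mp hn z).mp z.2) z.2
      (((MulAut.conj n).orderOf_eq (z : G)).trans hzo') hzo'
  -- `N` is solvable
  have hNsol : Group.IsSolvable ↥N := by
    have hZnorm : N ≤ Subgroup.normalizer (Z : Set G) := by
      intro n hn
      refine Subgroup.mem_normalizer_iff.mpr fun y => ?_
      have key : ∀ m ∈ N, ∀ y ∈ Z, m * y * m⁻¹ ∈ Z := by
        intro m hm y hy
        obtain ⟨i, rfl⟩ := Subgroup.mem_zpowers_iff.mp hy
        rw [show m * (z : G) ^ i * m⁻¹ = (MulAut.conj m) ((z : G) ^ i) from rfl, map_zpow]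
        exact Subgroup.zpow_mem _ (hZn m hm) i
      refine ⟨key n hn y, fun hy => ?_⟩
      have := key n⁻¹ (inv_mem hn) _ hy
      rwa [show n⁻¹ * (n * y * n⁻¹) * n⁻¹⁻¹ = y by group] at this
    let ρ : ↥N →* MulAut ↥Z := Z.normalizerMonoidHom.comp (Subgroup.inclusion hZnorm)
    haveI hab : ∀ f g : MulAut ↥Z, f * g = g * f := by
      intro f g
      have hgen : ∀ y : ↥Z, ∃ i : ℤ, y = (⟨(z : G), Subgroup.mem_zpowers _⟩ : ↥Z) ^ i := fun y => by
        obtain ⟨i, hi⟩ := Subgroup.mem_zpowers_iff.mp y.2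
        exact ⟨i, Subtype.ext (by rw [Subgroup.coe_zpow]; exact hi.symm)⟩
      refine MulEquiv.ext fun y => ?_
      obtain ⟨i, rfl⟩ := hgen y
      rw [map_zpow, map_zpow, MulAut.mul_apply, MulAut.mul_apply]
      congr 1
      obtain ⟨a, ha⟩ := hgen (f ⟨(z : G), Subgroup.mem_zpowers _⟩)
      obtain ⟨b, hb⟩ := hgen (g ⟨(z : G), Subgroup.mem_zpowers _⟩)
      rw [ha, hb, map_zpow, map_zpow, ha, hb, ← zpow_mul, ← zpow_mul, mul_comm]
    haveI : Group.IsSolvable ↥ρ.range :=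
      Group.isSolvable_of_comm fun a b => Subtype.ext (hab a b)
    have hker : IsPGroup q ↥(ρ.ker.map N.subtype) := by
      refine h.isPGroup_of_centralizes hzo' ?_
      rintro _ ⟨n, hn, rfl⟩
      have h2 : (n : G) * z * (n : G)⁻¹ = z :=
        congrArg (fun f : MulAut ↥Z => ((f ⟨(z : G), Subgroup.mem_zpowers _⟩ : ↥Z) : G))
          (MonoidHom.mem_ker.mp hn)
      exact mul_inv_eq_iff_eq_mul.mp h2
    haveI : Group.IsSolvable ↥ρ.ker := by
      haveI := (hker.of_equiv (ρ.ker.equivMapOfInjective N.subtype N.subtype_injective).symm).isNilpotent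
      infer_instance
    haveI : Group.IsSolvable (↥N ⧸ ρ.ker) :=
      Group.isSolvable_of_surjective (f := (QuotientGroup.quotientKerEquivRange ρ).symm.toMonoidHom)
        (QuotientGroup.quotientKerEquivRange ρ).symm.surjective
    exact (Group.isSolvable_iff_subgroup_quotient ρ.ker).mpr ⟨inferInstance, inferInstance⟩
  haveI : Group.IsSolvable (G ⧸ F) := by
    haveI := hNsol
    refine Group.isSolvable_of_surjective (f := π.comp N.subtype) fun x => ?_
    induction x using QuotientGroup.induction_on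
    rename_i g
    have hg : g ∈ N ⊔ F := hgen ▸ Subgroup.mem_top g
    obtain ⟨n, hn, f, hf, rfl⟩ := Subgroup.mem_sup_of_normal_right.mp hg
    exact ⟨⟨n, hn⟩, (show π n = π (n * f) by
      rw [map_mul, show π f = 1 from (QuotientGroup.eq_one_iff f).mpr hf, mul_one])⟩
  haveI : Group.IsSolvable ↥F := by haveI := hF.isNilpotent; infer_instance
  exact (Group.isSolvable_iff_subgroup_quotient F).mpr ⟨inferInstance, inferInstance⟩

/-- A nontrivial solvable normal subgroup contains a nontrivial normal subgroup of prime power order. -/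
theorem exists_normal_pgroup {X : Type u} [Group X] [Finite X] (R : Subgroup X) [R.Normal]
    (hR : Group.IsSolvable ↥R) (hR1 : R ≠ ⊥) :
    ∃ (q : ℕ) (_ : Fact q.Prime) (K : Subgroup X), K.Normal ∧ K ≤ R ∧ K ≠ ⊥ ∧ IsPGroup q ↥K := by
  classical
  obtain ⟨n, hn⟩ := (Group.isSolvable_def _).mp hR
  have hex : ∃ n, derivedSeries ↥R n = ⊥ := ⟨n, hn⟩
  obtain ⟨k, hk⟩ : ∃ k, Nat.find hex = k + 1 := by
    refine ⟨Nat.find hex - 1, (Nat.succ_pred_eq_of_pos (Nat.pos_of_ne_zero fun e => ?_)).symm⟩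
    have h0 := Nat.find_spec hex
    rw [e, derivedSeries_zero] at h0
    exact hR1 ((Subgroup.map_subtype_le (⊤ : Subgroup ↥R)).antisymm
      (by rw [← MonoidHom.range_eq_map, Subgroup.range_subtype]) ▸ (by rw [h0, Subgroup.map_bot]))
  set A := derivedSeries ↥R k with hA
  have hA1 : A ≠ ⊥ := Nat.find_min hex (by omega)
  have hAab : ⁅A, A⁆ = ⊥ := by
    have h0 := Nat.find_spec hex
    rwa [hk, derivedSeries_succ] at h0
  set AG := A.map R.subtype with hAG
  haveI : A.Characteristic := inferInstance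
  haveI hAn : AG.Normal := ConjAct.normal_of_characteristic_of_normal
  have hcomm : ∀ a ∈ AG, ∀ b ∈ AG, a * b = b * a := by
    rintro _ ⟨a, ha, rfl⟩ _ ⟨b, hb, rfl⟩
    have := (Subgroup.commutator_eq_bot_iff_le_centralizer.mp hAab) hb
    exact congrArg Subtype.val (Subgroup.mem_centralizer_iff.mp this a ha)
  have hAG1 : AG ≠ ⊥ := fun e =>
    hA1 ((Subgroup.map_eq_bot_iff_of_injective _ R.subtype_injective).mp e)
  obtain ⟨q, hq, hqd⟩ := Nat.exists_prime_and_dvd (n := Nat.card ↥AG)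
    (fun e => hAG1 (Subgroup.eq_bot_of_card_eq _ e))
  haveI := Fact.mk hq
  let K : Subgroup X :=
    { carrier := {a | a ∈ AG ∧ ∃ j : ℕ, a ^ q ^ j = 1}
      one_mem' := ⟨AG.one_mem, 0, by simp⟩
      mul_mem' := fun {a b} ⟨ha, i, hi⟩ ⟨hb, j, hj⟩ => ⟨AG.mul_mem ha hb, i + j, by
        rw [(show Commute a b from hcomm a ha b hb).mul_pow]
        have e1 : a ^ q ^ (i + j) = 1 := by rw [pow_add, pow_mul, hi, one_pow]
        have e2 : b ^ q ^ (i + j) = 1 := by rw [add_comm, pow_add, pow_mul, hj, one_pow]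
        rw [e1, e2, one_mul]⟩
      inv_mem' := fun {a} ⟨ha, i, hi⟩ => ⟨AG.inv_mem ha, i, by rw [inv_pow, hi, inv_one]⟩ }
  refine ⟨q, inferInstance, K, ⟨fun a ⟨ha, i, hi⟩ g => ⟨hAn.conj_mem a ha g, i, ?_⟩⟩,
    fun a ha => Subgroup.map_subtype_le _ ha.1, fun e => ?_, fun a => ?_⟩
  · rw [conj_pow, hi, mul_one, mul_inv_cancel]
  · obtain ⟨c, hc⟩ := exists_prime_orderOf_dvd_card' q hqd
    have hcK : (c : X) ∈ K := ⟨c.2, 1, by
      rw [pow_one, ← hc, ← Subgroup.orderOf_coe, pow_orderOf_eq_one]⟩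
    rw [e, Subgroup.mem_bot] at hcK
    rw [← Subgroup.orderOf_coe, hcK, orderOf_one] at hc
    exact hq.one_lt.ne hc
  · obtain ⟨-, i, hi⟩ := a.2
    exact ⟨i, Subtype.ext hi⟩

/-- The solvable normal subgroups of a nonsolvable such group are `p`-groups. -/
theorem IsPP.exists_isPGroup (h : IsPP G) (hns : ¬ Group.IsSolvable G) (R : Subgroup G) [R.Normal]
    (hR : Group.IsSolvable ↥R) : ∃ p : ℕ, p.Prime ∧ IsPGroup p ↥R := by
  classical
  by_cases hR1 : R = ⊥
  · exact ⟨2, Nat.prime_two, fun x => ⟨0, Subtype.ext (by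
      simpa using Subgroup.mem_bot.mp (hR1 ▸ x.2 : (x : G) ∈ (⊥ : Subgroup G)))⟩⟩
  obtain ⟨p, hp, F₀, hF₀n, hF₀R, hF₀1, hF₀p⟩ := exists_normal_pgroup R hR hR1
  haveI : Finite (Subgroup G) := Finite.of_injective (fun H => (H : Set G)) SetLike.coe_injective
  obtain ⟨F, hF₀F, ⟨hFn, hFR, hFp⟩, hFmax⟩ := Set.Finite.exists_le_maximal
    (Set.toFinite {F : Subgroup G | F.Normal ∧ F ≤ R ∧ IsPGroup p ↥F})
    (show F₀ ∈ {F : Subgroup G | F.Normal ∧ F ≤ R ∧ IsPGroup p ↥F} from ⟨hF₀n, hF₀R, hF₀p⟩)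
  refine ⟨p, hp.out, ?_⟩
  by_contra hRp
  haveI := hFn
  haveI := hR
  set π := QuotientGroup.mk' F
  haveI : (R.map π).Normal := Subgroup.Normal.map inferInstance π (QuotientGroup.mk'_surjective F)
  have hR' : R.map π ≠ ⊥ := fun e => hRp (by
    rw [Subgroup.map_eq_bot_iff, QuotientGroup.ker_mk'] at e
    exact le_antisymm hFR e ▸ hFp)
  obtain ⟨q, hq, Kb, hKn, hKR, hK1, hKq⟩ := exists_normal_pgroup (R.map π)
    (Group.isSolvable_of_surjective (π.subgroupMap_surjective R)) hR'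
  haveI := hKn
  set K := Kb.comap π
  have hFK : F ≤ K := fun f hf => by
    show π f ∈ Kb
    rw [show π f = 1 from (QuotientGroup.eq_one_iff f).mpr hf]
    exact Kb.one_mem
  have hmap : K.map π = Kb := Subgroup.map_comap_eq_self_of_surjective (QuotientGroup.mk'_surjective F) Kb
  have hKF : ¬ K ≤ F := fun hle => hK1 (by
    rw [← hmap, Subgroup.map_eq_bot_iff, QuotientGroup.ker_mk']
    exact hle)
  have hKR' : K ≤ R := fun k hk => by
    obtain ⟨r, hr, e⟩ := hKR hk
    have hf : r⁻¹ * k ∈ F := by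
      rw [← QuotientGroup.eq_one_iff]
      show π (r⁻¹ * k) = 1
      rw [map_mul, map_inv, e, inv_mul_cancel]
    rw [show k = r * (r⁻¹ * k) by group]
    exact R.mul_mem hr (hFR hf)
  by_cases hpq : p = q
  · subst hpq
    refine hKF (hFmax ⟨inferInstance, hKR', ?_⟩ hFK)
    exact hKq.comap_of_ker_isPGroup π (by rw [QuotientGroup.ker_mk']; exact hFp)
  · have hF1 : F ≠ ⊥ := fun e => hF₀1 (le_bot_iff.mp (e ▸ hF₀F))
    exact hns (h.isSolvable_of_step hpq F hFp hF1 K hFK (hmap.symm ▸ hKq) hKF)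

/-- Two commuting subgroups: one of them is a group of prime power order. -/
theorem IsPP.isPGroup_of_commute (h : IsPP G) {A B : Subgroup G} (hB : B ≠ ⊥)
    (hc : ∀ a ∈ A, ∀ b ∈ B, Commute a b) : ∃ p : ℕ, p.Prime ∧ IsPGroup p ↥A := by
  obtain ⟨p, hp, hd⟩ := Nat.exists_prime_and_dvd (n := Nat.card ↥B)
    (fun e => hB (Subgroup.eq_bot_of_card_eq _ e))
  haveI := Fact.mk hp
  obtain ⟨b, hb⟩ := exists_prime_orderOf_dvd_card' p hd
  exact ⟨p, hp, h.isPGroup_of_centralizes (by rw [Subgroup.orderOf_coe, hb]) fun a ha => hc a ha b b.2⟩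

/-- The socle of such a group without solvable normal subgroups. -/
theorem IsPP.exists_simple (h : IsPP G) [Nontrivial G]
    (hrad : ∀ N : Subgroup G, N.Normal → Group.IsSolvable ↥N → N = ⊥) :
    ∃ M : Subgroup G, M.Normal ∧ IsSimpleGroup ↥M ∧ ¬ IsMulCommutative ↥M ∧
      ∀ N : Subgroup G, N.Normal → N ≠ ⊥ → M ≤ N := by
  classical
  haveI : Finite (Subgroup G) := Finite.of_injective (fun H => (H : Set G)) SetLike.coe_injective
  obtain ⟨M, ⟨hMn, hM1⟩, hMmin⟩ := (Set.toFinite {N : Subgroup G | N.Normal ∧ N ≠ ⊥}).exists_minimal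
    ⟨⊤, inferInstance, top_ne_bot⟩
  haveI := hMn
  have hMns : ∀ N : Subgroup G, N.Normal → N ≠ ⊥ → ∀ p : ℕ, p.Prime → ¬ IsPGroup p ↥N := by
    intro N hN hN1 p hp hNp
    haveI := Fact.mk hp
    haveI := hNp.isNilpotent
    exact hN1 (hrad N hN inferInstance)
  have hMuniq : ∀ N : Subgroup G, N.Normal → N ≠ ⊥ → M ≤ N := by
    intro N hN hN1
    by_contra hle
    haveI := hN
    have hinf : M ⊓ N = ⊥ := by
      by_contra hne
      exact hle ((hMmin ⟨inferInstance, hne⟩ inf_le_left).trans inf_le_right)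
    obtain ⟨p, hp, hpM⟩ := h.isPGroup_of_commute (A := M) hN1 fun a ha b hb =>
      Subgroup.commute_of_normal_of_disjoint M N hMn hN (disjoint_iff.mpr hinf) a b ha hb
    exact hMns M hMn hM1 p hp hpM
  have hMab : ¬ IsMulCommutative ↥M := fun hc => by
    haveI := hc
    exact hM1 (hrad M hMn (Group.isSolvable_of_comm fun a b => mul_comm' a b))
  refine ⟨M, hMn, ?_, hMab, hMuniq⟩
  haveI : Nontrivial ↥M := (Subgroup.nontrivial_iff_ne_bot M).mpr hM1
  -- a minimal normal subgroup of `M` is not moved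
  refine ⟨fun L₁ hL₁ => ?_⟩
  by_contra hcon
  push Not at hcon
  haveI : Finite (Subgroup ↥M) := Finite.of_injective (fun H => (H : Set ↥M)) SetLike.coe_injective
  obtain ⟨L, hLle, ⟨hLn, hL1⟩, hLmin⟩ := Set.Finite.exists_le_minimal
    (Set.toFinite {L : Subgroup ↥M | L.Normal ∧ L ≠ ⊥})
    (show L₁ ∈ {L : Subgroup ↥M | L.Normal ∧ L ≠ ⊥} from ⟨hL₁, hcon.1⟩)
  haveI := hLn
  set L' := L.map M.subtype
  have hL'1 : L' ≠ ⊥ := fun e => hL1 ((Subgroup.map_eq_bot_iff_of_injective _ M.subtype_injective).mp e)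
  obtain ⟨g, hg⟩ : ∃ g : G, ¬ L'.map (MulAut.conj g).toMonoidHom ≤ L' := by
    by_contra hall
    push Not at hall
    have hn : L'.Normal := ⟨fun x hx g => hall g ⟨x, hx, rfl⟩⟩
    have hMle : M ≤ L' := hMuniq L' hn hL'1
    refine hcon.2 (top_le_iff.mp fun x _ => hLle ?_)
    obtain ⟨y, hy, e⟩ := hMle x.2
    exact (Subtype.ext e : y = x) ▸ hy
  let c : ↥M ≃* ↥M :=
    { toFun := fun m => ⟨g * m * g⁻¹, hMn.conj_mem m m.2 g⟩
      invFun := fun m => ⟨g⁻¹ * m * g, by simpa using hMn.conj_mem m m.2 g⁻¹⟩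
      left_inv := fun m => Subtype.ext (by simp [mul_assoc])
      right_inv := fun m => Subtype.ext (by simp [mul_assoc])
      map_mul' := fun a b => Subtype.ext (by simp [mul_assoc]) }
  haveI hLcn : (L.map c.toMonoidHom).Normal := hLn.map _ c.surjective
  have hinf : L.map c.toMonoidHom ⊓ L = ⊥ := by
    by_contra hne
    have hle : L ≤ L.map c.toMonoidHom :=
      (hLmin ⟨inferInstance, hne⟩ inf_le_right).trans inf_le_left
    have heq : L = L.map c.toMonoidHom := Subgroup.eq_of_le_of_card_ge hle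
      (Subgroup.card_map_of_injective c.injective).le
    apply hg
    rintro _ ⟨_, ⟨l, hl, rfl⟩, rfl⟩
    exact ⟨c l, heq ▸ ⟨l, hl, rfl⟩, rfl⟩
  have hLc1 : L.map c.toMonoidHom ≠ ⊥ := fun e =>
    hL1 ((Subgroup.map_eq_bot_iff_of_injective _ c.injective).mp e)
  obtain ⟨p, hp, hpL⟩ := h.isPGroup_of_commute (A := L') (B := (L.map c.toMonoidHom).map M.subtype)
    (fun e => hLc1 ((Subgroup.map_eq_bot_iff_of_injective _ M.subtype_injective).mp e))
    (by
      rintro _ ⟨a, ha, rfl⟩ _ ⟨b, hb, rfl⟩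
      exact (congrArg Subtype.val (Subgroup.commute_of_normal_of_disjoint _ _ hLcn hLn
        (disjoint_iff.mpr hinf) b a hb ha).eq).symm)
  -- then `L` lies in the `p`-core, a normal `p`-subgroup
  haveI := Fact.mk hp
  have hLp : IsPGroup p ↥L :=
    hpL.of_equiv (L.equivMapOfInjective M.subtype M.subtype_injective).symm
  obtain ⟨S, ⟨hSn, hSp⟩, hSmax⟩ := (Set.toFinite {S : Subgroup ↥M | S.Normal ∧ IsPGroup p ↥S}).exists_maximal
    ⟨L, hLn, hLp⟩
  have htopS : ∀ T : Subgroup ↥M, T.Normal → IsPGroup p ↥T → T ≤ S := fun T hT hTp => by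
    haveI := hT
    haveI := hSn
    exact le_sup_right.trans (hSmax ⟨inferInstance, hSp.to_sup_of_normal_right hTp⟩ le_sup_left)
  have hSG : (S.map M.subtype).Normal := by
    refine ⟨?_⟩
    rintro _ ⟨s, hs, rfl⟩ g
    let d : ↥M ≃* ↥M :=
      { toFun := fun m => ⟨g * m * g⁻¹, hMn.conj_mem m m.2 g⟩
        invFun := fun m => ⟨g⁻¹ * m * g, by simpa using hMn.conj_mem m m.2 g⁻¹⟩
        left_inv := fun m => Subtype.ext (by simp [mul_assoc])
        right_inv := fun m => Subtype.ext (by simp [mul_assoc])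
        map_mul' := fun a b => Subtype.ext (by simp [mul_assoc]) }
    exact ⟨d s, htopS (S.map d.toMonoidHom) (hSn.map _ d.surjective) (hSp.map _) ⟨s, hs, rfl⟩, rfl⟩
  refine hMns _ hSG (fun e => hL1 ?_) p hp (hSp.map _)
  rw [Subgroup.map_eq_bot_iff_of_injective _ M.subtype_injective] at e
  exact le_bot_iff.mp (e ▸ htopS L hLn hLp)

end CfsgLib.PrimePower
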