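import Mathlib
import Cfsg.Prelude.Def_LieExceptional
import Cfsg.Agent.S0183
import Cfsg.Agent.Lib.PrimePower.Nonsolvable

/-!
A normal subgroup outside which every element has prime power order: if the quotient is not
solvable, then the subgroup is solvable.
-/

set_option autoImplicit false
set_option linter.style.haveILetI false
set_option linter.unusedSectionVars false

namespace CfsgLib.PrimePowerCoset

open Cfsg

/-- An element of prime order acting without fixed points on a group `K` and on an abelian group of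
order prime to `#K`: then `K` acts trivially on the abelian group. -/
theorem trivial_of_fixed_point_free {L A : Type*} [Group L] [Finite L] [CommGroup A]
    (φ : L →* MulAut A) (K : Subgroup L) [K.Normal] (x : L) {r : ℕ} (hr : r.Prime) (hx : orderOf x = r)
    (hK : ∀ i : ℕ, 0 < i → i < r → ∀ k ∈ K, Commute (x ^ i) k → k = 1)
    (hA : ∀ k ∈ K, ∀ a : A, φ (k * x * k⁻¹) a = a → a = 1)
    (hcop : (Nat.card A).Coprime (Nat.card K)) [Finite A] :
    ∀ k ∈ K, ∀ a : A, φ k a = a := by
  classical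
  haveI := Fintype.ofFinite K
  intro k₀ hk₀ a
  have happ : ∀ (g h : L) (b : A), φ (g * h) b = φ g (φ h b) := fun g h b => by
    rw [map_mul]; rfl
  -- the product over the powers of a conjugate of `x` is fixed by it
  have hnorm : ∀ k ∈ K, ∀ b : A, ∏ i ∈ Finset.range r, φ ((k * x * k⁻¹) ^ i) b = 1 := by
    intro k hk b
    refine hA k hk _ ?_
    set y := k * x * k⁻¹
    have hy : y ^ r = 1 := by rw [conj_pow, ← hx, pow_orderOf_eq_one, mul_one, mul_inv_cancel]
    set f : ℕ → A := fun i => φ (y ^ i) b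
    rw [map_prod]
    calc ∏ i ∈ Finset.range r, φ y (φ (y ^ i) b) = ∏ i ∈ Finset.range r, f (i + 1) :=
          Finset.prod_congr rfl fun i _ => by rw [← happ, ← pow_succ']
      _ = ∏ i ∈ Finset.range r, f i := by
          have h1 := Finset.prod_range_succ' f r
          have h2 := Finset.prod_range_succ f r
          have h3 : f r = f 0 := by simp only [f, hy, pow_zero]
          rw [h1, h3] at h2
          exact mul_right_cancel h2
  -- conjugation by `K` moves a power of `x` through its coset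
  have hcoset : ∀ i : ℕ, 0 < i → i < r → ∀ b : A,
      ∏ k : K, φ ((k : L) * x ^ i * (k : L)⁻¹) b = ∏ k : K, φ (k : L) (φ (x ^ i) b) := by
    intro i hi hir b
    let c : K → K := fun k => ⟨(k : L) * (x ^ i * (k : L)⁻¹ * (x ^ i)⁻¹),
      K.mul_mem k.2 (Subgroup.Normal.conj_mem inferInstance _ (K.inv_mem k.2) _)⟩
    have hc : Function.Injective c := by
      intro k l h
      have h' : (k : L) * (x ^ i * (k : L)⁻¹ * (x ^ i)⁻¹) =
          (l : L) * (x ^ i * (l : L)⁻¹ * (x ^ i)⁻¹) := congrArg Subtype.val h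
      have h1 : Commute (x ^ i) ((l : L)⁻¹ * k) := by
        show x ^ i * ((l : L)⁻¹ * k) = (l : L)⁻¹ * k * x ^ i
        calc x ^ i * ((l : L)⁻¹ * k)
            = (l : L)⁻¹ * ((l : L) * (x ^ i * (l : L)⁻¹ * (x ^ i)⁻¹)) * (x ^ i * k) := by group
          _ = (l : L)⁻¹ * ((k : L) * (x ^ i * (k : L)⁻¹ * (x ^ i)⁻¹)) * (x ^ i * k) := by rw [h']
          _ = (l : L)⁻¹ * k * x ^ i := by group
      have h2 := hK i hi hir _ (K.mul_mem (K.inv_mem l.2) k.2) h1
      exact Subtype.ext (inv_mul_eq_one.mp h2).symm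
    refine Fintype.prod_bijective c (Finite.injective_iff_bijective.mp hc) _ _ fun k => ?_
    rw [← happ]
    congr 2
    simp [c, mul_assoc]
  set S : A := ∏ k : K, φ (k : L) a
  -- summing the norm relations
  have hsum : S = a ^ Fintype.card K := by
    have h1 : ∏ k : K, ∏ i ∈ Finset.range r, φ (((k : L) * x * (k : L)⁻¹) ^ i) a = 1 :=
      Finset.prod_eq_one fun k _ => hnorm k k.2 a
    rw [Finset.prod_comm] at h1
    obtain ⟨s, rfl⟩ : ∃ s, r = s + 1 := ⟨r - 1, by have := hr.pos; omega⟩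
    rw [Finset.prod_range_succ'] at h1
    simp only [conj_pow, pow_zero, mul_one, mul_inv_cancel, map_one, MulAut.one_apply,
      Finset.prod_const, Finset.card_univ] at h1
    rw [Finset.prod_congr rfl fun i hi => hcoset (i + 1) (Nat.succ_pos i)
      (by simpa using hi) a, Finset.prod_comm] at h1
    have h2 : ∀ k : K, ∏ i ∈ Finset.range s, φ (k : L) (φ (x ^ (i + 1)) a) = φ (k : L) a⁻¹ := by
      intro k
      rw [← map_prod]
      congr 1
      have h3 := hnorm 1 K.one_mem a
      simp only [one_mul, inv_one, mul_one] at h3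
      rw [Finset.prod_range_succ'] at h3
      simp only [pow_zero, map_one, MulAut.one_apply] at h3
      exact eq_inv_of_mul_eq_one_left h3
    rw [Finset.prod_congr rfl fun k _ => h2 k] at h1
    simp only [map_inv, Finset.prod_inv_distrib] at h1
    exact inv_mul_eq_one.mp h1
  have hfix : φ k₀ S = S := by
    rw [map_prod]
    refine Fintype.prod_bijective (fun k : K => (⟨k₀, hk₀⟩ : K) * k)
      (Group.mulLeft_bijective _) _ _ fun k => ?_
    rw [← happ]; rfl
  rw [hsum, map_pow] at hfix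
  have hc : (Nat.card A).Coprime (Fintype.card K) := by rwa [← Nat.card_eq_fintype_card]
  exact (powCoprime (G := A) hc).injective hfix

variable {L : Type*} [Group L] [Finite L]

/-- All elements outside a normal subgroup act without fixed points, up to the prime of the module:
impossible when the normal subgroup acts trivially and the quotient is not solvable. -/
theorem trivial_action_false {A : Type*} [CommGroup A] [Finite A] (K : Subgroup L) [K.Normal]
    (hpp : ∀ x : L, x ∉ K → IsPrimePow (orderOf x)) (hns : ¬ Group.IsSolvable (L ⧸ K))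
    (heven : 2 ∣ Nat.card (L ⧸ K)) {q : ℕ} [Fact q.Prime] (hq : q ≠ 2) (hA : IsPGroup q A)
    [Nontrivial A] (φ : L →* MulAut A) (hKA : ∀ k ∈ K, φ k = 1)
    (hfree : ∀ x : L, x ∉ K → ¬ q ∣ orderOf x → ∀ a : A, φ x a = a → a = 1) : False := by
  haveI : Fact (Nat.Prime 2) := ⟨Nat.prime_two⟩
  set π := QuotientGroup.mk' K
  obtain ⟨y0, hy0⟩ := exists_prime_orderOf_dvd_card' (G := L ⧸ K) 2 heven
  obtain ⟨y, rfl⟩ := QuotientGroup.mk'_surjective K y0
  have hyK : y ∉ K := fun h => by
    rw [show π y = 1 from (QuotientGroup.eq_one_iff y).mpr h, orderOf_one] at hy0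
    exact absurd hy0 (by norm_num)
  have hy2 : y * y ∈ K := (QuotientGroup.eq_one_iff _).mp (by
    show π (y * y) = 1
    rw [map_mul, ← pow_two, ← hy0, pow_orderOf_eq_one])
  have hyq : ¬ q ∣ orderOf y := by
    obtain ⟨p, k, hp, -, he⟩ := hpp y hyK
    have h2 : 2 ∣ p ^ k := he ▸ hy0 ▸ orderOf_map_dvd π y
    have hp2 := (Nat.prime_dvd_prime_iff_eq Nat.prime_two hp.nat_prime).mp
      (Nat.prime_two.dvd_of_dvd_pow h2)
    intro h
    rw [← he, ← hp2] at h
    exact hq ((Nat.prime_dvd_prime_iff_eq Fact.out Nat.prime_two).mp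
      ((Fact.out : q.Prime).dvd_of_dvd_pow h))
  have hinv : ∀ a : A, φ y a = a⁻¹ := fun a => by
    refine eq_inv_of_mul_eq_one_left (hfree y hyK hyq _ ?_)
    rw [map_mul, show φ y (φ y a) = φ (y * y) a by rw [map_mul]; rfl, hKA _ hy2, MulAut.one_apply,
      mul_comm]
  set M := φ.ker
  have hKM : K ≤ M := fun k hk => MonoidHom.mem_ker.mpr (hKA k hk)
  have hyM : y ∉ M := fun h => by
    obtain ⟨a, ha⟩ := exists_ne (1 : A)
    have h1 : a * a = 1 := by
      have h2 := hinv a
      rw [MonoidHom.mem_ker.mp h, MulAut.one_apply] at h2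
      nth_rw 2 [h2]
      exact mul_inv_cancel a
    have h2 : orderOf a ∣ 2 := orderOf_dvd_of_pow_eq_one (by rw [pow_two, h1])
    obtain ⟨k, hk⟩ := hA a
    obtain ⟨j, -, hj⟩ := (Nat.dvd_prime_pow Fact.out).mp (orderOf_dvd_of_pow_eq_one hk)
    rcases j with _ | j
    · exact ha (orderOf_eq_one_iff.mp (by rw [hj, pow_zero]))
    · exact hq ((Nat.prime_dvd_prime_iff_eq Fact.out Nat.prime_two).mp
        ((hj ▸ dvd_pow_self q j.succ_ne_zero : q ∣ orderOf a).trans h2))
  -- the kernel is a `q`-group modulo `K`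
  haveI : (M.map π).Normal := Subgroup.Normal.map inferInstance π (QuotientGroup.mk'_surjective K)
  have hMq : IsPGroup q (M.map π) := by
    rintro ⟨z, hz⟩
    obtain ⟨m, hm, rfl⟩ := hz
    by_cases hmK : m ∈ K
    · refine ⟨0, Subtype.ext ?_⟩
      show π m ^ q ^ 0 = 1
      rw [pow_zero, pow_one]
      exact (QuotientGroup.eq_one_iff m).mpr hmK
    obtain ⟨p, k, hp, -, he⟩ := hpp m hmK
    by_cases hqm : q ∣ orderOf m
    · have hpq := (Nat.prime_dvd_prime_iff_eq Fact.out hp.nat_prime).mp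
        ((Fact.out : q.Prime).dvd_of_dvd_pow (he ▸ hqm))
      refine ⟨k, Subtype.ext ?_⟩
      show π m ^ q ^ k = 1
      rw [← map_pow, hpq, he, pow_orderOf_eq_one, map_one]
    · exfalso
      obtain ⟨a, ha⟩ := exists_ne (1 : A)
      exact ha (hfree m hmK hqm a (by rw [MonoidHom.mem_ker.mp hm, MulAut.one_apply]))
  -- modulo the kernel an involution is central
  set Q' := (L ⧸ K) ⧸ M.map π
  set τ := (QuotientGroup.mk' (M.map π)).comp π
  have hτ : ∀ g, τ g = 1 ↔ g ∈ M := fun g => by
    show QuotientGroup.mk' (M.map π) (π g) = 1 ↔ _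
    rw [QuotientGroup.mk'_apply, QuotientGroup.eq_one_iff]
    refine ⟨fun ⟨m, hm, e⟩ => ?_, fun h => ⟨g, h, rfl⟩⟩
    have h1 : m⁻¹ * g ∈ K := QuotientGroup.eq.mp e
    have h2 := M.mul_mem hm (hKM h1)
    rwa [mul_inv_cancel_left] at h2
  have hsurj : Function.Surjective τ :=
    (QuotientGroup.mk'_surjective _).comp (QuotientGroup.mk'_surjective K)
  have hPP : CfsgLib.PrimePower.IsPP Q' := by
    intro z hz
    obtain ⟨g, rfl⟩ := hsurj z
    obtain ⟨p, k, hp, -, he⟩ := hpp g fun h => hz ((hτ g).mpr (hKM h))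
    obtain ⟨j, -, hj⟩ := (Nat.dvd_prime_pow hp.nat_prime).mp (he ▸ orderOf_map_dvd τ g)
    exact ⟨p, j, hp, Nat.pos_of_ne_zero fun e => hz (orderOf_eq_one_iff.mp (by rw [hj, e, pow_zero])),
      hj.symm⟩
  have hz1 : τ y ≠ 1 := fun h => hyM ((hτ y).mp h)
  have hz2 : orderOf (τ y) = 2 := orderOf_eq_prime (by
    rw [← map_pow, pow_two]; exact (hτ _).mpr (hKM hy2)) hz1
  have hcen : ∀ z : Q', Commute z (τ y) := by
    intro z
    obtain ⟨g, rfl⟩ := hsurj z
    have h1 : φ (g * y * g⁻¹ * y⁻¹) = 1 := by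
      rw [map_mul, map_mul, map_mul, map_inv, map_inv]
      ext a
      have hy' : (φ y)⁻¹ a = a⁻¹ := by
        rw [MulAut.inv_apply, MulEquiv.symm_apply_eq, hinv, inv_inv]
      simp [MulAut.mul_apply, hy', hinv, map_inv]
    have h2 : τ (g * y * g⁻¹ * y⁻¹) = 1 := (hτ _).mpr (MonoidHom.mem_ker.mpr h1)
    rw [map_mul, map_mul, map_mul, map_inv, map_inv] at h2
    exact mul_inv_eq_iff_eq_mul.mp (mul_inv_eq_one.mp h2)
  have htwo : IsPGroup 2 (⊤ : Subgroup Q') :=
    hPP.isPGroup_of_centralizes hz2 fun c _ => hcen c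
  haveI := hMq.isNilpotent
  haveI : Group.IsNilpotent Q' := (htwo.of_equiv Subgroup.topEquiv).isNilpotent
  exact hns (Group.isSolvable_of_ker_le_range (M.map π).subtype (QuotientGroup.mk' (M.map π))
    (by simp))

/-- The main result. -/
theorem main {G : Type*} [Group G] [Finite G] (N : Subgroup G) [N.Normal]
    (h : ∀ x : G, x ∉ N → IsPrimePow (orderOf x)) (hQ : ¬ Group.IsSolvable (G ⧸ N)) :
    Group.IsSolvable N := by
  classical
  by_contra hns
  haveI : Fact (Nat.Prime 2) := ⟨Nat.prime_two⟩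
  have hPP : CfsgLib.PrimePower.IsPP (G ⧸ N) := by
    intro z hz
    obtain ⟨g, rfl⟩ := QuotientGroup.mk'_surjective N z
    obtain ⟨p, k, hp, -, he⟩ := h g fun hg => hz ((QuotientGroup.eq_one_iff g).mpr hg)
    obtain ⟨j, -, hj⟩ := (Nat.dvd_prime_pow hp.nat_prime).mp
      (he ▸ orderOf_map_dvd (QuotientGroup.mk' N) g)
    exact ⟨p, j, hp, Nat.pos_of_ne_zero fun e => hz (orderOf_eq_one_iff.mp (by rw [hj, e, pow_zero])),
      hj.symm⟩
  have heven : 2 ∣ Nat.card (G ⧸ N) := by
    by_contra hodd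
    refine hQ (Cfsg.Agent.S0183.result (Nat.odd_iff.mpr (by omega)) fun g hg => ?_)
    obtain ⟨p, k, hp, hk, he⟩ := hPP g hg
    haveI : Fact p.Prime := ⟨hp.nat_prime⟩
    obtain ⟨z, hz, hzg⟩ : ∃ z, orderOf z = p ∧ z ∈ Subgroup.zpowers g := by
      refine ⟨g ^ (p ^ (k - 1)), ?_, Subgroup.pow_mem _ (Subgroup.mem_zpowers g) _⟩
      rw [orderOf_pow' g (pow_ne_zero _ hp.ne_zero), ← he, Nat.gcd_eq_right (pow_dvd_pow p (k.sub_le 1)),
        Nat.pow_div (k.sub_le 1) hp.nat_prime.pos, show k - (k - 1) = 1 by omega, pow_one]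
    refine IsPGroup.isNilpotent (p := p) (hPP.isPGroup_of_centralizes hz fun c hc => ?_)
    obtain ⟨i, rfl⟩ := Subgroup.mem_zpowers_iff.mp hzg
    exact Commute.zpow_right (Subgroup.mem_centralizer_singleton_iff.mp hc) i
  -- an odd prime of `N`
  obtain ⟨p, hp, hpN, hp2⟩ : ∃ p, p.Prime ∧ p ∣ Nat.card N ∧ p ≠ 2 := by
    by_contra! hall
    have h2 : IsPGroup 2 N := IsPGroup.iff_card.mpr ⟨(Nat.card N).primeFactorsList.length,
      Nat.eq_prime_pow_of_unique_prime_dvd Nat.card_pos.ne' fun {r} hr hd => hall r hr hd⟩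
    haveI := h2.isNilpotent
    exact hns inferInstance
  haveI : Fact p.Prime := ⟨hp⟩
  obtain ⟨R⟩ : Nonempty (Sylow p N) := Sylow.nonempty
  set R' := (R : Subgroup N).map N.subtype with hR'
  -- a smallest supplement of `N` normalising a Sylow subgroup of it
  obtain ⟨L, ⟨hLM, hLN⟩, hmin⟩ := Set.Finite.exists_minimalFor (fun L : Subgroup G => Nat.card L)
    {L : Subgroup G | L ≤ Subgroup.normalizer (R' : Set G) ∧ L ⊔ N = ⊤} (Set.toFinite _)
    ⟨_, le_rfl, Sylow.normalizer_sup_eq_top R⟩
  set K := N.subgroupOf L with hKdef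
  have hKmem : ∀ {u : L}, u ∈ K ↔ (u : G) ∈ N := Subgroup.mem_subgroupOf
  haveI : K.Normal := Subgroup.Normal.subgroupOf inferInstance _
  have hord : ∀ u : L, u ∉ K → IsPrimePow (orderOf u) := fun u hu => by
    rw [← Subgroup.orderOf_coe]; exact h _ hu
  set f : L →* G ⧸ N := (QuotientGroup.mk' N).comp L.subtype
  have hf : Function.Surjective f := by
    intro z
    obtain ⟨g, rfl⟩ := QuotientGroup.mk'_surjective N z
    have hg : g ∈ ((L ⊔ N : Subgroup G) : Set G) := hLN.symm ▸ Subgroup.mem_top g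
    rw [Subgroup.mul_normal] at hg
    obtain ⟨l, hl, n, hn, rfl⟩ := hg
    refine ⟨⟨l, hl⟩, QuotientGroup.eq.mpr ?_⟩
    simpa using hn
  have hker : f.ker = K := by
    ext u
    rw [MonoidHom.mem_ker, hKmem]
    exact QuotientGroup.eq_one_iff (u : G)
  let e : L ⧸ K ≃* G ⧸ N :=
    (QuotientGroup.quotientMulEquivOfEq hker.symm).trans (QuotientGroup.quotientKerEquivOfSurjective f hf)
  have hnsQ : ¬ Group.IsSolvable (L ⧸ K) := fun hs => hQ (by
    haveI := hs
    exact Group.isSolvable_of_surjective (f := e.toMonoidHom) e.surjective)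
  have hevenL : 2 ∣ Nat.card (L ⧸ K) := by rwa [Nat.card_congr e.toEquiv]
  -- the intersection with `N` is nilpotent
  have hKnil : Group.IsNilpotent K := by
    haveI := frattini_nilpotent (G := L)
    have hle : K ≤ frattini L := by
      refine le_iInf₂ fun H hH => ?_
      by_contra hKH
      have htop : H ⊔ K = ⊤ := hH.2 _ (left_lt_sup.mpr hKH)
      have hsup : H.map L.subtype ⊔ N = ⊤ := by
        refine top_le_iff.mp (hLN.ge.trans (sup_le ?_ le_sup_right))
        intro g hg
        have hm : (⟨g, hg⟩ : L) ∈ ((H ⊔ K : Subgroup L) : Set L) := htop.symm ▸ Subgroup.mem_top _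
        rw [Subgroup.mul_normal] at hm
        obtain ⟨a, ha, b, hb, hab⟩ := hm
        rw [show g = (a : G) * (b : G) from (congrArg Subtype.val hab).symm]
        exact mul_mem (Subgroup.mem_sup_left ⟨a, ha, rfl⟩) (Subgroup.mem_sup_right hb)
      have hle' : H.map L.subtype ≤ L := Subgroup.map_subtype_le H
      have hge := hmin (show H.map L.subtype ∈ _ from ⟨hle'.trans hLM, hsup⟩)
        (Subgroup.card_le_of_le hle')
      refine hH.1 (Subgroup.map_injective L.subtype_injective ?_)
      rw [← MonoidHom.range_eq_map, Subgroup.range_subtype]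
      exact Subgroup.eq_of_le_of_card_ge hle' hge
    exact Group.isNilpotent_congr (Subgroup.subgroupOfEquivOfLe hle) |>.mp inferInstance
  -- coprime commuting elements give an element of mixed order
  have hfree : ∀ (u : L) (b : G) (q : ℕ) [Fact q.Prime], u ∉ K → ¬ q ∣ orderOf u → b ∈ N →
      (∃ k, b ^ q ^ k = 1) → Commute (u : G) b → b = 1 := by
    intro u b q _ hu hqu hb ⟨k, hk⟩ hub
    by_contra hb1
    obtain ⟨j, -, hj⟩ := (Nat.dvd_prime_pow (Fact.out : q.Prime)).mp (orderOf_dvd_of_pow_eq_one hk)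
    have hqb : q ∣ orderOf b := by
      rcases j with _ | j
      · exact absurd (orderOf_eq_one_iff.mp (by rw [hj, pow_zero])) hb1
      · exact hj ▸ dvd_pow_self q j.succ_ne_zero
    rw [← Subgroup.orderOf_coe] at hqu
    have hcop : (orderOf (u : G)).Coprime (orderOf b) := by
      rw [hj]
      exact Nat.Coprime.pow_right _ (((Fact.out : q.Prime).coprime_iff_not_dvd.mpr hqu).symm)
    have hprod := hub.orderOf_mul_eq_mul_orderOf_of_coprime hcop
    obtain ⟨s, i, hs, -, he⟩ := h ((u : G) * b) fun h' => hu (hKmem.mpr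
      (by simpa using N.mul_mem h' (N.inv_mem hb)))
    rw [hprod] at he
    have hsq := (Nat.prime_dvd_prime_iff_eq (Fact.out : q.Prime) hs.nat_prime).mp
      ((Fact.out : q.Prime).dvd_of_dvd_pow (he ▸ hqb.mul_left _ : q ∣ s ^ i))
    obtain ⟨m, hm, hmu⟩ := Nat.exists_prime_and_dvd (n := orderOf (u : G)) fun h1 => hu (by
      rw [orderOf_eq_one_iff] at h1
      exact hKmem.mpr (h1 ▸ N.one_mem))
    have hsm := (Nat.prime_dvd_prime_iff_eq hm hs.nat_prime).mp
      (hm.dvd_of_dvd_pow (he ▸ hmu.mul_right _ : m ∣ s ^ i))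
    exact hqu (hsq.trans hsm.symm ▸ hmu)
  -- the intersection with `N` is a 2-group
  have hK2 : IsPGroup 2 K := by
    refine IsPGroup.iff_card.mpr ⟨(Nat.card K).primeFactorsList.length,
      Nat.eq_prime_pow_of_unique_prime_dvd Nat.card_pos.ne' fun {q} hq hd => ?_⟩
    by_contra hq2
    haveI : Fact q.Prime := ⟨hq⟩
    obtain ⟨P⟩ : Nonempty (Sylow q K) := Sylow.nonempty
    haveI : (P : Subgroup K).Normal := Sylow.normal_of_normalizerCondition
      Group.normalizerCondition_of_isNilpotent P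
    haveI : (P : Subgroup K).Characteristic := P.characteristic_of_normal inferInstance
    haveI : ((P : Subgroup K).map K.subtype).Normal := inferInstance
    set P' := (P : Subgroup K).map K.subtype with hP'
    have hP'q : IsPGroup q P' := P.isPGroup'.map _
    set Z := (Subgroup.center P').map P'.subtype with hZ
    haveI : Z.Normal := by
      haveI : (Subgroup.center P').Characteristic := inferInstance
      rw [hZ]; infer_instance
    haveI : Nontrivial P' := by
      rw [Subgroup.nontrivial_iff_ne_bot, hP', Ne,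
        Subgroup.map_eq_bot_iff_of_injective _ K.subtype_injective]
      exact P.ne_bot_of_dvd_card hd
    have hZP : Z ≤ P' := Subgroup.map_subtype_le _
    haveI : Nontrivial Z := by
      haveI := hP'q.center_nontrivial
      rw [Subgroup.nontrivial_iff_ne_bot, hZ, Ne,
        Subgroup.map_eq_bot_iff_of_injective _ P'.subtype_injective]
      exact (Subgroup.nontrivial_iff_ne_bot _).mp inferInstance
    have hP'K : P' ≤ K := Subgroup.map_subtype_le _
    -- `K` centralises `Z`
    have hcent : ∀ k ∈ K, ∀ z ∈ Z, Commute k z := by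
      intro k hk z hz
      obtain ⟨⟨z, hzP⟩, hzc, rfl⟩ := hz
      haveI := hKnil
      -- split `k` into its `q`-part and the rest
      have hzK : z ∈ K := hP'K hzP
      obtain ⟨z', hz', hzz'⟩ := id hzP
      refine Subgroup.mem_centralizer_singleton_iff.mp ?_
      suffices hall : K ≤ Subgroup.centralizer ({z} : Set L) from hall hk
      have hidx : ((Subgroup.centralizer ({z} : Set L)).subgroupOf K).index = 1 := by
        by_contra hne
        obtain ⟨t, ht, hdvd⟩ := Nat.exists_prime_and_dvd hne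
        haveI : Fact t.Prime := ⟨ht⟩
        obtain ⟨T⟩ : Nonempty (Sylow t K) := Sylow.nonempty
        refine T.not_dvd_index (hdvd.trans (Subgroup.index_dvd_of_le fun s hs => ?_))
        rw [Subgroup.mem_subgroupOf, Subgroup.mem_centralizer_singleton_iff]
        by_cases htq : t = q
        · subst htq
          haveI := Sylow.unique_of_normal P inferInstance
          have hsP : s ∈ (P : Subgroup K) := Subsingleton.elim T P ▸ hs
          exact congrArg Subtype.val (Subgroup.mem_center_iff.mp hzc ⟨(s : L), ⟨s, hsP, rfl⟩⟩)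
        · haveI : (T : Subgroup K).Normal := Sylow.normal_of_normalizerCondition
            Group.normalizerCondition_of_isNilpotent T
          have hdis : Disjoint (T : Subgroup K) (P : Subgroup K) :=
            IsPGroup.disjoint_of_ne t q htq _ _ T.isPGroup' P.isPGroup'
          have hc := Subgroup.commute_of_normal_of_disjoint _ _ inferInstance inferInstance hdis
            s z' hs hz'
          have hc' : Commute (s : L) (z' : L) := hc.map K.subtype
          rwa [show (z' : L) = z from hzz'] at hc'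
      exact fun s hs => Subgroup.mem_subgroupOf.mp
        ((Subgroup.index_eq_one.mp hidx).symm ▸ Subgroup.mem_top (⟨s, hs⟩ : K))
    letI : CommGroup Z :=
      { (inferInstance : Group Z) with
        mul_comm := fun a b => by
          obtain ⟨a, c, hc, rfl⟩ := a
          obtain ⟨b, d, hd', rfl⟩ := b
          exact Subtype.ext (congrArg (fun w => (Subgroup.subtype _) w) (Subgroup.mem_center_iff.mp hd' c)) }
    refine trivial_action_false K hord hnsQ hevenL (A := Z) hq2 (hP'q.to_le hZP)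
      MulAut.conjNormal (fun k hk => ?_) (fun u hu hqu z hz => ?_)
    · ext z
      rw [MulAut.conjNormal_apply, (hcent k hk z z.2).eq, mul_inv_cancel_right, MulAut.one_apply]
    · obtain ⟨k, hk⟩ := (hP'q.to_le hZP) z
      have hz' : u * (z : L) * u⁻¹ = z := by
        rw [← MulAut.conjNormal_apply, hz]
      exact Subtype.ext (Subtype.ext (hfree u ((z : L) : G) q hu hqu
        (hKmem.mp (hP'K (hZP z.2))) ⟨k, by simpa using congrArg (fun w : Z => ((w : L) : G)) hk⟩
        ((show Commute u (z : L) from mul_inv_eq_iff_eq_mul.mp hz').map L.subtype)))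
  -- the centre of the Sylow subgroup
  set Z := (Subgroup.center R').map R'.subtype with hZ
  have hR'p : IsPGroup p R' := R.isPGroup'.map _
  have hZR : Z ≤ R' := Subgroup.map_subtype_le _
  have hZN : Z ≤ N := hZR.trans (Subgroup.map_subtype_le _)
  haveI : Nontrivial R' := by
    rw [Subgroup.nontrivial_iff_ne_bot, hR', Ne,
      Subgroup.map_eq_bot_iff_of_injective _ N.subtype_injective]
    exact R.ne_bot_of_dvd_card hpN
  haveI : Nontrivial Z := by
    haveI := hR'p.center_nontrivial
    rw [Subgroup.nontrivial_iff_ne_bot, hZ, Ne,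
      Subgroup.map_eq_bot_iff_of_injective _ R'.subtype_injective]
    exact (Subgroup.nontrivial_iff_ne_bot _).mp inferInstance
  have hLZ : L ≤ Subgroup.normalizer (Z : Set G) := by
    intro g hg
    refine Subgroup.mem_normalizer_fintype fun z hz => ?_
    obtain ⟨⟨z, hzR⟩, hzc, rfl⟩ := hz
    have hN' := Subgroup.mem_normalizer_iff.mp (hLM hg)
    refine ⟨⟨g * z * g⁻¹, (hN' z).mp hzR⟩, Subgroup.mem_center_iff.mpr fun w => ?_, rfl⟩
    refine Subtype.ext ?_
    have hw : g⁻¹ * (w : G) * g ∈ R' := by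
      have := (hN' (g⁻¹ * (w : G) * g)).mpr (by
        rw [show g * (g⁻¹ * (w : G) * g) * g⁻¹ = w by group]; exact w.2)
      exact this
    have hc : g⁻¹ * (w : G) * g * z = z * (g⁻¹ * (w : G) * g) :=
      congrArg Subtype.val (Subgroup.mem_center_iff.mp hzc ⟨_, hw⟩)
    show (w : G) * (g * z * g⁻¹) = g * z * g⁻¹ * w
    calc (w : G) * (g * z * g⁻¹) = g * (g⁻¹ * (w : G) * g * z) * g⁻¹ := by group
      _ = g * (z * (g⁻¹ * (w : G) * g)) * g⁻¹ := by rw [hc]
      _ = g * z * g⁻¹ * w := by group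
  letI : CommGroup Z :=
    { (inferInstance : Group Z) with
      mul_comm := fun a b => by
        obtain ⟨a, c, hc, rfl⟩ := a
        obtain ⟨b, d, hd', rfl⟩ := b
        exact Subtype.ext (congrArg (fun w => (Subgroup.subtype _) w) (Subgroup.mem_center_iff.mp hd' c)) }
  set φ : L →* MulAut Z := Z.normalizerMonoidHom.comp (Subgroup.inclusion hLZ) with hφ
  have hφapp : ∀ (u : L) (z : Z), ((φ u z : Z) : G) = (u : G) * (z : G) * (u : G)⁻¹ := fun u z => rfl
  have hZp : IsPGroup p Z := hR'p.to_le hZR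
  have hfreeZ : ∀ u : L, u ∉ K → ¬ p ∣ orderOf u → ∀ z : Z, φ u z = z → z = 1 := by
    intro u hu hpu z hz
    obtain ⟨k, hk⟩ := hZp z
    refine Subtype.ext (hfree u z p hu hpu (hZN z.2) ⟨k, by
      simpa using congrArg Subtype.val hk⟩ ?_)
    have h1 := congrArg Subtype.val hz
    rw [hφapp] at h1
    exact mul_inv_eq_iff_eq_mul.mp h1
  -- a third prime
  obtain ⟨r, hr, hrQ, hr2, hrp⟩ : ∃ r, r.Prime ∧ r ∣ Nat.card (L ⧸ K) ∧ r ≠ 2 ∧ r ≠ p := by
    by_contra! hall
    exact hnsQ (CfsgLib.FourOrbit.isSolvable_of_two_primes Nat.prime_two hp (Ne.symm hp2)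
      fun s hs hd => or_iff_not_imp_left.mpr fun hs2 => hall s hs hd hs2)
  haveI : Fact r.Prime := ⟨hr⟩
  obtain ⟨x0, hx0⟩ := exists_prime_orderOf_dvd_card' (G := L ⧸ K) r hrQ
  obtain ⟨x, rfl⟩ := QuotientGroup.mk'_surjective K x0
  have hxK : x ∉ K := fun h' => by
    rw [show (QuotientGroup.mk' K) x = 1 from (QuotientGroup.eq_one_iff x).mpr h', orderOf_one] at hx0
    exact hr.one_lt.ne hx0
  obtain ⟨s, i, hs, -, he⟩ := hord x hxK
  have hsr : r = s := (Nat.prime_dvd_prime_iff_eq hr hs.nat_prime).mp (hr.dvd_of_dvd_pow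
    (he ▸ hx0 ▸ orderOf_map_dvd (QuotientGroup.mk' K) x))
  subst hsr
  have hxr : orderOf x = r := by
    refine orderOf_eq_prime ?_ fun h1 => hxK (h1 ▸ K.one_mem)
    have hmem : x ^ r ∈ K := (QuotientGroup.eq_one_iff _).mp (by
      show QuotientGroup.mk' K (x ^ r) = 1
      rw [map_pow, ← hx0, pow_orderOf_eq_one])
    have h1 : orderOf (x ^ r) ∣ r ^ i := he ▸ orderOf_pow_dvd r
    obtain ⟨j, hj⟩ := IsPGroup.iff_card.mp hK2
    have h2 : orderOf (x ^ r) ∣ 2 ^ j := hj ▸ Subgroup.orderOf_dvd_natCard _ hmem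
    have h3 := Nat.dvd_gcd h1 h2
    rw [(Nat.Coprime.pow i j ((Nat.coprime_primes hr Nat.prime_two).mpr hr2) :
      (r ^ i).Coprime (2 ^ j)).gcd_eq_one] at h3
    exact orderOf_eq_one_iff.mp (Nat.dvd_one.mp h3)
  have hxi : ∀ i : ℕ, 0 < i → i < r → x ^ i ∉ K := by
    intro i hi hir hmem
    have h1 : orderOf (QuotientGroup.mk' K x) ∣ i := orderOf_dvd_of_pow_eq_one (by
      rw [← map_pow]; exact (QuotientGroup.eq_one_iff _).mpr hmem)
    rw [hx0] at h1
    exact absurd (Nat.le_of_dvd hi h1) (by omega)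
  have htriv := trivial_of_fixed_point_free φ K x hr hxr
    (fun i hi hir k hk hcomm => by
      obtain ⟨j, hj⟩ := hK2 ⟨k, hk⟩
      refine Subtype.ext (hfree (x ^ i) k 2 (hxi i hi hir) ?_ (hKmem.mp hk)
        ⟨j, by simpa using congrArg (fun w : K => ((w : L) : G)) hj⟩ (hcomm.map L.subtype))
      intro hd
      exact hr2 ((Nat.prime_dvd_prime_iff_eq Nat.prime_two hr).mp
        (hd.trans (hxr ▸ orderOf_pow_dvd i))).symm)
    (fun k hk z hz => hfreeZ _ (fun hm => hxK (by
        have h1 := Subgroup.Normal.conj_mem inferInstance _ hm k⁻¹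
        simpa [mul_assoc] using h1))
      (by
        rw [show orderOf (k * x * k⁻¹) = r from hxr ▸ MulEquiv.orderOf_eq (MulAut.conj k) x]
        exact fun hd => hrp ((Nat.prime_dvd_prime_iff_eq hp hr).mp hd).symm) z hz)
    (by
      obtain ⟨a, ha⟩ := IsPGroup.iff_card.mp hZp
      obtain ⟨b, hb⟩ := IsPGroup.iff_card.mp hK2
      rw [ha, hb]
      exact Nat.Coprime.pow _ _ ((Nat.coprime_primes hp Nat.prime_two).mpr hp2))
  exact trivial_action_false K hord hnsQ hevenL hp2 hZp φ
    (fun k hk => MulEquiv.ext (htriv k hk)) hfreeZ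

end CfsgLib.PrimePowerCoset
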